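import Mathlib
import Groth.Prelude.Def_Found

/-!
# Normal curves in finite extensions over a Nagata ring
-/

set_option autoImplicit false
set_option linter.style.haveILetI false
universe u

namespace Groth.Agent.NagataCurve13

/-- Constructible sets are locally near each of their points closed in an open. -/
theorem isConstructible_locally {T : Type u} [TopologicalSpace T] {s : Set T} (hs : Topology.IsConstructible s) :
    (∀ x ∈ s, ∃ O C : Set T, IsOpen O ∧ IsClosed C ∧ x ∈ O ∧ x ∈ C ∧ O ∩ C ⊆ s) ∧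
    (∀ x ∈ sᶜ, ∃ O C : Set T, IsOpen O ∧ IsClosed C ∧ x ∈ O ∧ x ∈ C ∧ O ∩ C ⊆ sᶜ) := by
  induction hs using Topology.IsConstructible.empty_union_induction with
  | open_retrocompact U hU _ =>
    exact ⟨fun x hx => ⟨U, Set.univ, hU, isClosed_univ, hx, trivial, Set.inter_subset_left⟩,
      fun x hx => ⟨Set.univ, Uᶜ, isOpen_univ, hU.isClosed_compl, trivial, hx, Set.inter_subset_right⟩⟩
  | union a _ b _ ha hb =>
    refine ⟨fun x hx => ?_, fun x hx => ?_⟩
    · rcases hx with hx | hx
      · obtain ⟨O, C, hO, hC, h1, h2, h3⟩ := ha.1 x hx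
        exact ⟨O, C, hO, hC, h1, h2, h3.trans Set.subset_union_left⟩
      · obtain ⟨O, C, hO, hC, h1, h2, h3⟩ := hb.1 x hx
        exact ⟨O, C, hO, hC, h1, h2, h3.trans Set.subset_union_right⟩
    · obtain ⟨O, C, hO, hC, h1, h2, h3⟩ := ha.2 x (fun h => hx (Or.inl h))
      obtain ⟨O', C', hO', hC', h1', h2', h3'⟩ := hb.2 x (fun h => hx (Or.inr h))
      refine ⟨O ∩ O', C ∩ C', hO.inter hO', hC.inter hC', ⟨h1, h1'⟩, ⟨h2, h2'⟩, ?_⟩
      rintro y ⟨⟨a1, a1'⟩, a2, a2'⟩ (h | h)
      · exact h3 ⟨a1, a2⟩ h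
      · exact h3' ⟨a1', a2'⟩ h
  | compl a _ ha => exact ⟨ha.2, by rw [compl_compl]; exact ha.1⟩

/-- In a Noetherian domain, a maximal ideal of height at least two has another nonzero prime below it
avoiding a given nonzero element. -/
theorem gap_domain {D : Type u} [CommRing D] [IsDomain D] [IsNoetherianRing D] (m : Ideal D) [m.IsMaximal]
    (a : D) (ha : a ≠ 0) (h : ∀ q : Ideal D, q.IsPrime → q < m → a ∉ q → q = ⊥)
    (q0 : Ideal D) [q0.IsPrime] (hq0 : q0 < m) : q0 = ⊥ := by
  by_contra hne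
  have htwo : ∀ P : Ideal D, P.IsPrime → P ≠ ⊥ → (1 : ℕ∞) ≤ P.height := fun P hP hP0 => by
    haveI := hP
    have := Ideal.height_add_one_le_of_lt_of_isPrime (I := (⊥ : Ideal D)) (J := P) (bot_lt_iff_ne_bot.2 hP0)
    exact le_trans le_add_self this
  have htwo' : ∀ P Q : Ideal D, P.IsPrime → Q.IsPrime → P ≠ ⊥ → P < Q → ¬ Q.height ≤ 1 := fun P Q hP hQ hP0 hPQ h1 => by
    haveI := hP
    haveI := hQ
    have h2 := (Ideal.height_add_one_le_of_lt_of_isPrime hPQ).trans h1
    have h3 : (1 : ℕ∞) + 1 ≤ 1 := le_trans (add_le_add (htwo P hP hP0) le_rfl) h2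
    exact absurd h3 (by decide)
  by_cases ham : a ∈ m
  swap
  · exact hne (h q0 inferInstance hq0 fun hm => ham (hq0.le hm))
  have hmin : m ∉ (Ideal.span {a}).minimalPrimes := fun hm =>
    htwo' q0 m inferInstance inferInstance hne hq0 (Ideal.height_le_one_of_isPrincipal_of_mem_minimalPrimes _ _ hm)
  have hfin := (Ideal.span {a}).finite_minimalPrimes_of_isNoetherianRing
  obtain ⟨b, hbm, hb⟩ : ∃ b ∈ m, ∀ P ∈ (Ideal.span {a}).minimalPrimes, b ∉ P := by
    by_contra hcon
    push Not at hcon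
    have hsub : (m : Set D) ⊆ ⋃ P ∈ (↑hfin.toFinset : Set (Ideal D)), (P : Set D) := fun b hb => by
      obtain ⟨P, hP, hbP⟩ := hcon b hb
      exact Set.mem_biUnion (show P ∈ (↑hfin.toFinset : Set (Ideal D)) by simpa using hP) hbP
    obtain ⟨P, hP, hle⟩ := (Ideal.subset_union_prime (s := hfin.toFinset) (f := fun P => P) m m
      (fun P hP _ _ => (hfin.mem_toFinset.1 hP).isPrime)).1 hsub
    exact hmin ((‹m.IsMaximal›.eq_of_le (hfin.mem_toFinset.1 hP).isPrime.ne_top hle) ▸ hfin.mem_toFinset.1 hP)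
  obtain ⟨q, hq, hqm⟩ := Ideal.exists_minimalPrimes_le ((Ideal.span_singleton_le_iff_mem m).2 hbm)
  haveI := hq.isPrime
  have hqh := Ideal.height_le_one_of_isPrincipal_of_mem_minimalPrimes _ _ hq
  have hbq : b ∈ q := (Ideal.span_singleton_le_iff_mem q).1 hq.le
  have haq : a ∉ q := fun haq => by
    obtain ⟨P, hP, hPq⟩ := Ideal.exists_minimalPrimes_le ((Ideal.span_singleton_le_iff_mem q).2 haq)
    rcases eq_or_lt_of_le hPq with rfl | hlt
    · exact hb P hP hbq
    · exact htwo' P q hP.isPrime inferInstance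
        (fun h0 => ha (by simpa [h0] using (Ideal.span_singleton_le_iff_mem P).1 hP.le)) hlt hqh
  have hqlt : q < m := lt_of_le_of_ne hqm fun e => htwo' q0 m inferInstance inferInstance hne hq0 (e ▸ hqh)
  have hq0' := h q inferInstance hqlt haq
  obtain ⟨P, hP, -⟩ := Ideal.exists_minimalPrimes_le ((Ideal.span_singleton_le_iff_mem m).2 ham)
  exact hb P hP (by rw [hq0'] at hbq; rw [(Submodule.mem_bot D).1 hbq]; exact P.zero_mem)

/-- The same, between two primes. -/
theorem gap {R : Type u} [CommRing R] [IsNoetherianRing R] (p m : Ideal R) [p.IsPrime] [m.IsMaximal]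
    (a : R) (ha : a ∉ p) (h : ∀ q : Ideal R, q.IsPrime → p ≤ q → q < m → a ∉ q → q = p)
    (q0 : Ideal R) [q0.IsPrime] (hpq : p ≤ q0) (hq0 : q0 < m) : q0 = p := by
  let π := Ideal.Quotient.mk p
  have hπ : Function.Surjective π := Ideal.Quotient.mk_surjective
  have hker : RingHom.ker π = p := Ideal.mk_ker
  have hcm : ∀ q : Ideal R, p ≤ q → (q.map π).comap π = q := fun q hq => by
    rw [Ideal.comap_map_of_surjective π hπ]
    exact sup_eq_left.2 (by change RingHom.ker π ≤ q; rwa [hker])
  have hpm : p ≤ m := hpq.trans hq0.le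
  haveI : (m.map π).IsMaximal :=
    (Ideal.map_eq_top_or_isMaximal_of_surjective π hπ ‹m.IsMaximal›).resolve_left fun htop => by
      have := hcm m hpm
      rw [htop, Ideal.comap_top] at this
      exact ‹m.IsMaximal›.ne_top this.symm
  haveI : (q0.map π).IsPrime := Ideal.map_isPrime_of_surjective hπ (by rwa [hker])
  have := gap_domain (m.map π) (π a) (by rwa [ne_eq, Ideal.Quotient.eq_zero_iff_mem])
    (fun Q hQ hQm haQ => by
      haveI := hQ
      have h1 : Q.comap π < m := by
        have hle := Ideal.comap_mono (f := π) hQm.le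
        rw [hcm m hpm] at hle
        refine lt_of_le_of_ne hle fun e => hQm.ne ?_
        rw [← Ideal.map_comap_of_surjective π hπ Q, e]
      have h2 := h (Q.comap π) inferInstance (le_trans hker.ge (Ideal.comap_mono bot_le)) h1 haQ
      rw [← Ideal.map_comap_of_surjective π hπ Q, h2]
      exact Ideal.map_quotient_self p)
    (q0.map π) (lt_of_le_of_ne (Ideal.map_mono hq0.le) fun e => hq0.ne (by rw [← hcm q0 hpq, e, hcm m hpm]))
  rw [← hcm q0 hpq, this, ← RingHom.ker_eq_comap_bot, hker]

/-- A normal one-dimensional model of a finite extension of the residue field at `p`, with a closed point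
over `m`. -/
theorem exists_curve_ring {R : Type u} [CommRing R] (hR : CAlg.IsNagata R) (p m : Ideal R) [p.IsPrime]
    [m.IsMaximal] (hpm : p < m) (hgap : ∀ q : Ideal R, q.IsPrime → p ≤ q → q < m → q = p)
    (K' L : Type u) [Field K'] [Field L] (ψ : R →+* K') (hψ : RingHom.ker ψ = p)
    (hfrac : ∀ x : K', ∃ r s : R, ψ s ≠ 0 ∧ x = ψ r / ψ s) (φ : K' →+* L) (hφ : φ.Finite) :
    ∃ (B : Type u) (_ : CommRing B) (_ : IsDomain B) (_ : IsNoetherianRing B) (_ : IsIntegrallyClosed B)
      (_ : Algebra B L) (_ : IsFractionRing B L) (g : R →+* B),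
      g.FiniteType ∧ (algebraMap B L).comp g = φ.comp ψ ∧
      ∃ c : Ideal B, c.IsMaximal ∧ c.comap g = m ∧ c.height = 1 := by
  haveI := hR.1
  let ψb : R ⧸ p →+* K' := Ideal.Quotient.lift p ψ fun x hx => by rw [← hψ] at hx; exact hx
  have hψb : Function.Injective ψb := by
    refine (injective_iff_map_eq_zero _).2 fun x hx => ?_
    obtain ⟨x, rfl⟩ := Ideal.Quotient.mk_surjective x
    rw [Ideal.Quotient.eq_zero_iff_mem, ← hψ]
    exact hx
  let K := FractionRing (R ⧸ p)
  let ℓ : K →+* K' := IsFractionRing.lift hψb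
  have hℓ : Function.Surjective ℓ := fun x => by
    obtain ⟨r, s, hs, rfl⟩ := hfrac x
    refine ⟨algebraMap (R ⧸ p) K (Ideal.Quotient.mk p r) / algebraMap (R ⧸ p) K (Ideal.Quotient.mk p s), ?_⟩
    rw [map_div₀, IsFractionRing.lift_algebraMap, IsFractionRing.lift_algebraMap]
    rfl
  letI : Algebra (R ⧸ p) L := (φ.comp ψb).toAlgebra
  letI : Algebra K L := (φ.comp ℓ).toAlgebra
  haveI : IsScalarTower (R ⧸ p) K L := IsScalarTower.of_algebraMap_eq fun x => by
    change φ (ψb x) = φ (ℓ (algebraMap (R ⧸ p) K x))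
    rw [IsFractionRing.lift_algebraMap]
  haveI : FiniteDimensional K L := hφ.comp (RingHom.Finite.of_surjective ℓ hℓ)
  have hfin : Module.Finite (R ⧸ p) (integralClosure (R ⧸ p) L) := hR.2 p L inferInstance
  let B := integralClosure (R ⧸ p) L
  haveI : IsFractionRing B L := integralClosure.isFractionRing_of_finite_extension K L
  haveI : IsIntegrallyClosed B := integralClosure.isIntegrallyClosedOfFiniteExtension K
  haveI : IsNoetherianRing B := IsNoetherianRing.of_finite (R ⧸ p) B
  haveI : Algebra.IsIntegral (R ⧸ p) B := Algebra.IsIntegral.of_finite _ _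
  refine ⟨B, inferInstance, inferInstance, inferInstance, inferInstance, inferInstance, inferInstance,
    (algebraMap (R ⧸ p) B).comp (Ideal.Quotient.mk p), ?_, ?_, ?_⟩
  · exact (RingHom.finiteType_algebraMap.2 inferInstance).comp
      (RingHom.FiniteType.of_surjective _ Ideal.Quotient.mk_surjective)
  · rfl
  · have hinj : Function.Injective (algebraMap (R ⧸ p) B) := fun x y h =>
      hψb (φ.injective (congrArg Subtype.val h))
    haveI : (m.map (Ideal.Quotient.mk p)).IsMaximal :=
      (Ideal.map_eq_top_or_isMaximal_of_surjective _ Ideal.Quotient.mk_surjective ‹m.IsMaximal›).resolve_left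
        fun htop => by
          have := congrArg (Ideal.comap (Ideal.Quotient.mk p)) htop
          rw [Ideal.comap_map_of_surjective _ Ideal.Quotient.mk_surjective, Ideal.comap_top,
            ← RingHom.ker_eq_comap_bot, Ideal.mk_ker, sup_eq_left.2 hpm.le] at this
          exact ‹m.IsMaximal›.ne_top this
    obtain ⟨c, hc, hcm⟩ := Ideal.exists_ideal_over_maximal_of_isIntegral (S := B) (m.map (Ideal.Quotient.mk p))
      (by rw [(RingHom.injective_iff_ker_eq_bot _).1 hinj]; exact bot_le)
    haveI := hc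
    have hcomap : ∀ Q : Ideal B, Q.comap ((algebraMap (R ⧸ p) B).comp (Ideal.Quotient.mk p)) =
        (Q.comap (algebraMap (R ⧸ p) B)).comap (Ideal.Quotient.mk p) := fun Q => (Ideal.comap_comap _ _).symm
    have hbot : Ideal.comap ((algebraMap (R ⧸ p) B).comp (Ideal.Quotient.mk p)) (⊥ : Ideal B) = p := by
      rw [hcomap, ← RingHom.ker_eq_comap_bot, (RingHom.injective_iff_ker_eq_bot _).1 hinj,
        ← RingHom.ker_eq_comap_bot, Ideal.mk_ker]
    have hcm' : Ideal.comap ((algebraMap (R ⧸ p) B).comp (Ideal.Quotient.mk p)) c = m := by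
      rw [hcomap, hcm, Ideal.comap_map_of_surjective _ Ideal.Quotient.mk_surjective, ← RingHom.ker_eq_comap_bot,
        Ideal.mk_ker, sup_eq_left.2 hpm.le]
    have hc0 : c ≠ ⊥ := fun e => hpm.ne (by rw [← hbot, ← hcm', e])
    refine ⟨c, hc, hcm', le_antisymm ?_ ?_⟩
    · rw [show (1 : ℕ∞) = ((1 : ℕ) : ℕ∞) from rfl, Ideal.height_le_iff]
      intro q hq hqc
      haveI := hq
      suffices q = ⊥ by rw [this, Ideal.height_bot]; simp
      by_contra hq0
      have h1 := Ideal.IsIntegral.comap_lt_comap (R := R ⧸ p) hqc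
      have h2 : (⊥ : Ideal (R ⧸ p)) < q.comap (algebraMap (R ⧸ p) B) := by
        have := Ideal.IsIntegral.comap_lt_comap (R := R ⧸ p) (bot_lt_iff_ne_bot.2 hq0)
        rwa [← RingHom.ker_eq_comap_bot, (RingHom.injective_iff_ker_eq_bot _).1 hinj] at this
      let γ := (algebraMap (R ⧸ p) B).comp (Ideal.Quotient.mk p)
      have hle : q.comap γ ≤ m := le_trans (Ideal.comap_mono hqc.le) hcm'.le
      have hge : p ≤ q.comap γ := hbot.ge.trans (Ideal.comap_mono bot_le)
      have hne : q.comap γ ≠ m := fun e => h1.ne (Ideal.comap_injective_of_surjective _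
        Ideal.Quotient.mk_surjective ((hcomap q).symm.trans (e.trans (hcm'.symm.trans (hcomap c)))))
      have h3 := hgap _ inferInstance hge (lt_of_le_of_ne hle hne)
      have h4 := Ideal.comap_injective_of_surjective _ Ideal.Quotient.mk_surjective
        ((hcomap q).symm.trans (h3.trans (hbot.symm.trans (hcomap ⊥))))
      rw [← RingHom.ker_eq_comap_bot, (RingHom.injective_iff_ker_eq_bot _).1 hinj] at h4
      exact h2.ne h4.symm
    · have := Ideal.height_add_one_le_of_lt_of_isPrime (I := (⊥ : Ideal B)) (J := c) (bot_lt_iff_ne_bot.2 hc0)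
      exact le_trans le_add_self this

end Groth.Agent.NagataCurve13
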