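import Mathlib
import Groth.Agent.Lib.NagataCurve13.Alg
import Groth.Agent.Lib.CAlgLow.NagataFT
import Groth.Agent.Lib.FtPts3.Fibre

/-!
# Valuative criterion with normal curves over a Nagata base
-/

set_option autoImplicit false
set_option linter.style.haveILetI false
set_option backward.isDefEq.respectTransparency false
set_option backward.isDefEq.respectTransparency.types false
universe u

open CategoryTheory CategoryTheory.Limits AlgebraicGeometry TopologicalSpace IsLocalRing

namespace Groth.Agent.NagataCurve13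

/-- Existence of lifts along normal curves over the base. -/
def CurveLift {S X Y : Scheme.{u}} (q : Y ⟶ S) (f : X ⟶ Y) : Prop :=
  ∀ (C : Scheme.{u}) (r : C ⟶ S) [IsIntegral C] [LocallyOfFiniteType r] [QuasiCompact r],
    (∀ x : C, IsIntegrallyClosed (C.presheaf.stalk x)) →
    ∀ (c : C), IsClosed ({c} : Set C) → ringKrullDim (C.presheaf.stalk c) = 1 →
    ∀ (U : C.Opens), (U : Set C) = {c}ᶜ →
    ∀ (u : (U : Scheme.{u}) ⟶ X) (g : C ⟶ Y), g ≫ q = r → u ≫ f = U.ι ≫ g →
    ∀ (k : Spec (CommRingCat.of (FractionRing (C.presheaf.stalk c))) ⟶ (U : Scheme.{u})),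
      k ≫ U.ι = Spec.map (CommRingCat.ofHom (algebraMap (C.presheaf.stalk c)
        (FractionRing (C.presheaf.stalk c)))) ≫ C.fromSpecStalk c →
    ∃ l : Spec (C.presheaf.stalk c) ⟶ X, l ≫ f = C.fromSpecStalk c ≫ g ∧
      Spec.map (CommRingCat.ofHom (algebraMap (C.presheaf.stalk c) (FractionRing (C.presheaf.stalk c)))) ≫ l =
        k ≫ u

theorem isLocallyNoetherian_of_nagata {S : Scheme.{u}} (hS : ∀ W : S.affineOpens, CAlg.IsNagata Γ(S, W)) :
    IsLocallyNoetherian S :=
  ⟨fun W => (hS W).1⟩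

theorem lfp_of_noetherian {X Y : Scheme.{u}} (f : X ⟶ Y) [IsLocallyNoetherian Y]
    [LocallyOfFiniteType f] : LocallyOfFinitePresentation f where
  finitePresentation_appLE := fun {U} hU {V} hV e =>
    haveI := IsLocallyNoetherian.component_noetherian (X := Y) ⟨U, hU⟩
    RingHom.FinitePresentation.of_finiteType.mp (f.finiteType_appLE hU hV e)

theorem eq_closedPoint_of_field {L : Type u} [Field L] (t : Spec (CommRingCat.of L)) : t = closedPoint L :=
  Subsingleton.elim (α := PrimeSpectrum L) t _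

/-- The punctured curve through a given point: spreading out. -/
theorem exists_punctured {B : CommRingCat.{u}} [IsDomain B] [IsNoetherianRing B] (c : Spec B)
    [c.asIdeal.IsMaximal] (hc : ∀ t : Spec B, t ⤳ c → t = c ∨ t = genericPoint (Spec B))
    (dom : (Spec B).Opens) (hdom : genericPoint (Spec B) ∈ dom) :
    ∃ b : B, c ∈ (PrimeSpectrum.basicOpen b : (Spec B).Opens) ∧
      ∀ t ∈ (PrimeSpectrum.basicOpen b : (Spec B).Opens), t ≠ c → t ∈ dom := by
  classical
  obtain ⟨I, hI⟩ := (PrimeSpectrum.isClosed_iff_zeroLocus_ideal (R := B) _).1 dom.2.isClosed_compl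
  have hfin := I.finite_minimalPrimes_of_isNoetherianRing
  have key : ∀ P ∈ hfin.toFinset.filter (· ≠ c.asIdeal), ∃ b, b ∈ P ∧ b ∉ c.asIdeal := by
    intro P hP
    rw [Finset.mem_filter, hfin.mem_toFinset] at hP
    by_contra hcon
    push Not at hcon
    have hle : P ≤ c.asIdeal := hcon
    let P' : Spec B := ⟨P, hP.1.isPrime⟩
    rcases hc P' ((PrimeSpectrum.le_iff_specializes P' c).1 hle) with h | h
    · exact hP.2 (congrArg PrimeSpectrum.asIdeal h)
    · have h' : P' ∈ dom.carrierᶜ := by rw [hI]; exact hP.1.le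
      exact h' (h ▸ hdom)
  choose bf hb hbc using key
  refine ⟨∏ P ∈ (hfin.toFinset.filter (· ≠ c.asIdeal)).attach, bf P.1 P.2, ?_, fun t ht htc => ?_⟩
  · exact fun hmem => by
      obtain ⟨P, -, hP⟩ := (Ideal.IsPrime.prod_mem_iff (p := c.asIdeal)).1 hmem
      exact hbc _ _ hP
  · by_contra htd
    have htI : I ≤ t.asIdeal := by
      have : t ∈ dom.carrierᶜ := htd
      rw [hI] at this
      exact this
    obtain ⟨P, hP, hPt⟩ := Ideal.exists_minimalPrimes_le htI
    by_cases hPc : P = c.asIdeal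
    · exact htc (PrimeSpectrum.ext ((hPc ▸ hPt |> fun h => ‹c.asIdeal.IsMaximal›.eq_of_le t.isPrime.ne_top h).symm))
    · refine ht ?_
      exact Ideal.mem_of_dvd _ (Finset.dvd_prod_of_mem (fun P : {P // P ∈ hfin.toFinset.filter (· ≠ c.asIdeal)} => bf P.1 P.2)
        (Finset.mem_attach _ ⟨P, Finset.mem_filter.2 ⟨hfin.mem_toFinset.2 hP, hPc⟩⟩)) (hPt (hb _ _))

set_option maxHeartbeats 1000000 in
/-- The geometric core: lifting a specialization along a normal curve. -/
theorem exists_specializes {S X Y : Scheme.{u}} [IsLocallyNoetherian S] (q : Y ⟶ S) [LocallyOfFiniteType q]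
    (f : X ⟶ Y) [LocallyOfFiniteType f] (H : CurveLift q f)
    {D : Y.Opens} (hD : IsAffineOpen D) (hN : CAlg.IsNagata Γ(Y, D))
    (p m : Spec Γ(Y, D)) [m.asIdeal.IsMaximal] (hpm : p.asIdeal < m.asIdeal)
    (hgap : ∀ q : Ideal Γ(Y, D), q.IsPrime → p.asIdeal ≤ q → q < m.asIdeal → q = p.asIdeal)
    (z' : X) (hz' : f z' = hD.fromSpec p) (hfin : (f.residueFieldMap z').hom.Finite) :
    ∃ x' : X, z' ⤳ x' ∧ f x' = hD.fromSpec m := by
  haveI : IsLocallyNoetherian Y := LocallyOfFiniteType.isLocallyNoetherian q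
  haveI : IsNoetherianRing Γ(Y, D) := hN.1
  have hy : f z' ∈ D := by
    have : hD.fromSpec p ∈ Set.range hD.fromSpec := ⟨p, rfl⟩
    rw [hD.range_fromSpec, ← hz'] at this
    exact this
  let ψ : Γ(Y, D) ⟶ Y.residueField (f z') := Y.evaluation D (f z') hy
  let ι : Γ(Y, D) ⟶ X.residueField z' := ψ ≫ f.residueFieldMap z'
  have hι : Spec.map ι ≫ hD.fromSpec = X.fromSpecResidueField z' ≫ f := by
    rw [← Scheme.Hom.SpecMap_residueFieldMap_fromSpecResidueField f z']
    change Spec.map (_ ≫ _) ≫ _ = _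
    rw [Spec.map_comp, Category.assoc]
    congr 1
    change Spec.map (Y.presheaf.germ D _ hy ≫ Y.residue _) ≫ _ = Spec.map (Y.residue _) ≫ Y.fromSpecStalk _
    rw [Spec.map_comp, Category.assoc, ← hD.fromSpecStalk_eq_fromSpecStalk hy]
    rfl
  have hkι : RingHom.ker ι.hom = p.asIdeal := by
    have h1 : hD.fromSpec (Spec.map ι (closedPoint (X.residueField z'))) = hD.fromSpec p := by
      rw [← Scheme.Hom.comp_apply, hι, Scheme.Hom.comp_apply, Scheme.fromSpecResidueField_apply, hz']
    have h2 := congrArg PrimeSpectrum.asIdeal (hD.fromSpec.isOpenEmbedding.injective h1)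
    rw [← h2]
    change _ = Ideal.comap ι.hom _
    rw [RingHom.ker_eq_comap_bot]
    congr 1
    exact (IsLocalRing.maximalIdeal_eq_bot (R := X.residueField z')).symm
  have hkψ : RingHom.ker ψ.hom = p.asIdeal := by
    rw [← hkι]
    exact (RingHom.ker_comp_of_injective ψ.hom (f.residueFieldMap z').hom.injective).symm
  have hfrac : ∀ x : Y.residueField (f z'), ∃ r s : Γ(Y, D), ψ.hom s ≠ 0 ∧ x = ψ.hom r / ψ.hom s := by
    intro x
    obtain ⟨a, rfl⟩ := IsLocalRing.residue_surjective (R := Y.presheaf.stalk (f z')) x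
    letI : Algebra Γ(Y, D) (Y.presheaf.stalk (f z')) := (Y.presheaf.germ D _ hy).hom.toAlgebra
    haveI : IsLocalization.AtPrime (Y.presheaf.stalk (f z')) (hD.primeIdealOf ⟨f z', hy⟩).asIdeal :=
      hD.isLocalization_stalk ⟨f z', hy⟩
    obtain ⟨r, s, rfl⟩ := IsLocalization.exists_mk'_eq (hD.primeIdealOf ⟨f z', hy⟩).asIdeal.primeCompl a
    have hu := IsLocalization.map_units (Y.presheaf.stalk (f z')) s
    have hne : ψ.hom s.1 ≠ 0 := ((hu.map (IsLocalRing.residue (Y.presheaf.stalk (f z')))).ne_zero)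
    refine ⟨r, s.1, hne, ?_⟩
    refine (eq_div_iff hne).2 ?_
    have := IsLocalization.mk'_spec (Y.presheaf.stalk (f z')) r s
    exact ((map_mul (IsLocalRing.residue (Y.presheaf.stalk (f z'))) _ _).symm.trans
      (congrArg (IsLocalRing.residue (Y.presheaf.stalk (f z'))) this))
  obtain ⟨B, _, _, _, _, _, _, g, hg, hge, c, hc, hcm, hc1⟩ := exists_curve_ring hN p.asIdeal m.asIdeal hpm hgap
    (Y.residueField (f z')) (X.residueField z') ψ.hom hkψ hfrac (f.residueFieldMap z').hom hfin
  let Bc : CommRingCat.{u} := CommRingCat.of B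
  let g0 : Spec Bc ⟶ Y := Spec.map (CommRingCat.ofHom g) ≫ hD.fromSpec
  haveI : LocallyOfFiniteType (Spec.map (CommRingCat.ofHom g)) := by
    rw [HasRingHomProperty.Spec_iff (P := @LocallyOfFiniteType)]; exact hg
  let η := genericPoint (Spec Bc)
  haveI : IsDomain Bc := (inferInstance : IsDomain B)
  haveI : IsNoetherianRing Bc := (inferInstance : IsNoetherianRing B)
  letI : Algebra B (Spec Bc).functionField := (StructureSheaf.toStalk Bc (genericPoint (Spec Bc))).hom.toAlgebra
  haveI : IsFractionRing B (Spec Bc).functionField := functionField_isFractionRing_of_affine Bc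
  let ε : CommRingCat.of (X.residueField z') ⟶ (Spec Bc).functionField :=
    CommRingCat.ofHom (IsLocalization.algEquiv (nonZeroDivisors B) (X.residueField z') (Spec Bc).functionField).toRingHom
  let φ : Spec ((Spec Bc).presheaf.stalk η) ⟶ X := Spec.map ε ≫ X.fromSpecResidueField z'
  have hε : ι ≫ ε = CommRingCat.ofHom g ≫ StructureSheaf.toStalk Bc η := by
    ext a
    change IsLocalization.algEquiv (nonZeroDivisors B) (X.residueField z') (Spec Bc).functionField
      (((f.residueFieldMap z').hom.comp ψ.hom) a) = _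
    rw [← hge]
    exact AlgEquiv.commutes _ _
  have hφ : φ ≫ f = (Spec Bc).fromSpecStalk η ≫ g0 := by
    simp only [φ, Category.assoc, ← hι, Spec.fromSpecStalk_eq', g0]
    rw [← Spec.map_comp_assoc, hε, Spec.map_comp_assoc]
  obtain ⟨dom, hηdom, h, hh1, hh2⟩ := spread_out_of_isGermInjective' (sX := g0) (sY := f) φ hφ
  let cp : Spec Bc := ⟨c, hc.isPrime⟩
  haveI : cp.asIdeal.IsMaximal := hc
  have hbotη : η.asIdeal = (⊥ : Ideal B) := congrArg PrimeSpectrum.asIdeal (genericPoint_eq_bot_of_affine Bc)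
  have hgen : ∀ t : Spec Bc, t ⤳ cp → t = cp ∨ t = η := fun t ht => by
    rcases eq_or_lt_of_le (α := Ideal B) ((PrimeSpectrum.le_iff_specializes (R := B) t cp).2 ht) with h' | h'
    · exact Or.inl (PrimeSpectrum.ext h')
    · refine Or.inr (PrimeSpectrum.ext ?_)
      rw [hbotη]
      by_contra h0
      haveI : t.asIdeal.IsPrime := t.isPrime
      have h1 := Ideal.height_add_one_le_of_lt_of_isPrime (I := (⊥ : Ideal B)) (J := t.asIdeal) (bot_lt_iff_ne_bot.2 h0)
      have h2 := Ideal.height_add_one_le_of_lt_of_isPrime (I := t.asIdeal) (J := c) h'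
      rw [hc1] at h2
      have h3 : (1 : ℕ∞) + 1 ≤ 1 := le_trans (add_le_add (le_trans le_add_self h1) le_rfl) h2
      exact absurd h3 (by decide)
  obtain ⟨b, hcb, hb⟩ := exists_punctured cp hgen dom hηdom
  let W : (Spec Bc).Opens := PrimeSpectrum.basicOpen b
  let c' : W := ⟨cp, hcb⟩
  haveI : Nonempty W := ⟨c'⟩
  haveI : IsNoetherian (Spec Bc) := inferInstance
  haveI : IsNoetherian W.toScheme := by
    haveI : IsLocallyNoetherian W.toScheme := LocallyOfFiniteType.isLocallyNoetherian W.ι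
    haveI : CompactSpace W.toScheme := isCompact_iff_compactSpace.1
      (TopologicalSpace.NoetherianSpace.isCompact (W : Set (Spec Bc)))
    constructor
  let r : W.toScheme ⟶ S := W.ι ≫ g0 ≫ q
  have hnormal : ∀ x : W.toScheme, IsIntegrallyClosed (W.toScheme.presheaf.stalk x) := fun x => by
    letI : Algebra B ((Spec Bc).presheaf.stalk x.1) := (StructureSheaf.toStalk Bc x.1).hom.toAlgebra
    haveI : @IsLocalization.AtPrime B _ ((Spec Bc).presheaf.stalk x.1) _ _ x.1.asIdeal x.1.isPrime :=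
      StructureSheaf.IsLocalization.to_stalk B x.1
    haveI : IsIntegrallyClosed ((Spec Bc).presheaf.stalk x.1) :=
      isIntegrallyClosed_of_isLocalization (R := B) (M := x.1.asIdeal.primeCompl)
        (S := (Spec Bc).presheaf.stalk x.1) x.1.asIdeal.primeCompl_le_nonZeroDivisors
    exact IsIntegrallyClosed.of_equiv (W.stalkIso x).commRingCatIsoToRingEquiv.symm
  have hdim : ringKrullDim (W.toScheme.presheaf.stalk c') = 1 := by
    letI : Algebra B ((Spec Bc).presheaf.stalk cp) := (StructureSheaf.toStalk Bc cp).hom.toAlgebra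
    haveI : @IsLocalization.AtPrime B _ ((Spec Bc).presheaf.stalk cp) _ _ cp.asIdeal cp.isPrime :=
      StructureSheaf.IsLocalization.to_stalk B cp
    rw [ringKrullDim_eq_of_ringEquiv (W.stalkIso c').commRingCatIsoToRingEquiv]
    change ringKrullDim ((Spec Bc).presheaf.stalk cp) = 1
    rw [IsLocalization.AtPrime.ringKrullDim_eq_height (R := B) cp.asIdeal]
    exact_mod_cast congrArg (fun n : ℕ∞ => (n : WithBot ℕ∞)) hc1
  have hclosed : IsClosed ({c'} : Set W.toScheme) := by
    have h0 : IsClosed ({cp} : Set (Spec Bc)) := (PrimeSpectrum.isClosed_singleton_iff_isMaximal cp).2 hc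
    have : ({c'} : Set W) = Subtype.val ⁻¹' {cp} := by ext t; exact Subtype.ext_iff
    exact this ▸ h0.preimage continuous_subtype_val
  let U : W.toScheme.Opens := ⟨{c'}ᶜ, hclosed.isOpen_compl⟩
  have hUdom : Set.range (U.ι ≫ W.ι) ⊆ Set.range dom.ι := by
    rintro _ ⟨t, rfl⟩
    rw [Scheme.Opens.range_ι]
    exact hb _ t.1.2 fun e => t.2 (Subtype.ext e)
  let v := IsOpenImmersion.lift dom.ι (U.ι ≫ W.ι) hUdom
  have hu : (v ≫ h) ≫ f = U.ι ≫ W.ι ≫ g0 := by
    rw [Category.assoc, hh2, IsOpenImmersion.lift_fac_assoc, Category.assoc]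
  haveI hdomain : IsDomain (W.toScheme.presheaf.stalk c') := inferInstance
  let O := W.toScheme.presheaf.stalk c'
  let kk : Spec (CommRingCat.of (FractionRing O)) ⟶ W.toScheme :=
    Spec.map (CommRingCat.ofHom (algebraMap O (FractionRing O))) ≫ W.toScheme.fromSpecStalk c'
  have hkpt : ∀ t, kk t ≠ c' := by
    intro t e
    have h1 : Spec.map (CommRingCat.ofHom (algebraMap O (FractionRing O))) t = closedPoint O :=
      (W.toScheme.fromSpecStalk c').isEmbedding.injective
        (by rw [Scheme.fromSpecStalk_closedPoint]; exact e)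
    have h2 : Ideal.comap (algebraMap O (FractionRing O)) t.asIdeal = maximalIdeal O :=
      congrArg PrimeSpectrum.asIdeal h1
    rw [eq_closedPoint_of_field t] at h2
    change Ideal.comap (algebraMap O (FractionRing O)) (maximalIdeal _) = _ at h2
    rw [IsLocalRing.maximalIdeal_eq_bot, ← RingHom.ker_eq_comap_bot,
      (RingHom.injective_iff_ker_eq_bot _).1 (IsFractionRing.injective O (FractionRing O))] at h2
    have hF : IsField O := IsLocalRing.isField_iff_maximalIdeal_eq.2 h2.symm
    letI := hF.toField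
    rw [ringKrullDim_eq_zero_of_isField hF] at hdim
    exact absurd hdim (by decide)
  have hkr : Set.range kk ⊆ Set.range U.ι := by
    rintro _ ⟨t, rfl⟩
    rw [Scheme.Opens.range_ι]
    exact hkpt t
  let k := IsOpenImmersion.lift U.ι kk hkr
  obtain ⟨l, hl1, hl2⟩ := H W.toScheme r hnormal c' hclosed hdim U rfl (v ≫ h) (W.ι ≫ g0)
    (Category.assoc _ _ _) hu k (IsOpenImmersion.lift_fac _ _ _)
  refine ⟨l (closedPoint O), ?_, ?_⟩
  · let t0 : Spec (CommRingCat.of (FractionRing O)) := closedPoint (FractionRing O)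
    have hgenpt : (Spec Bc).fromSpecStalk η (closedPoint _) = η := Scheme.fromSpecStalk_closedPoint
    have hdt : W.ι (kk t0) = η := by
      have hs : kk t0 ⤳ c' := by
        rw [← Scheme.fromSpecStalk_closedPoint (X := W.toScheme) (x := c')]
        exact (specializes_closedPoint _).map (W.toScheme.fromSpecStalk c').continuous
      rcases hgen _ (hs.map W.ι.continuous) with h' | h'
      · exact absurd (Subtype.ext h') (hkpt t0)
      · exact h'
    have h3 : l (Spec.map (CommRingCat.ofHom (algebraMap O (FractionRing O))) t0) = z' := by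
      change (Spec.map (CommRingCat.ofHom (algebraMap O (FractionRing O))) ≫ l) t0 = z'
      rw [hl2, Scheme.Hom.comp_apply, Scheme.Hom.comp_apply]
      have h4 : dom.ι (v (k t0)) = η := by
        have e1 : (v ≫ dom.ι) (k t0) = (U.ι ≫ W.ι) (k t0) :=
          congrArg (fun ψ : U.toScheme ⟶ Spec Bc => ψ (k t0)) (IsOpenImmersion.lift_fac _ _ _)
        have e2 : (k ≫ U.ι) t0 = kk t0 :=
          congrArg (fun ψ : Spec (CommRingCat.of (FractionRing O)) ⟶ W.toScheme => ψ t0) (IsOpenImmersion.lift_fac _ _ _)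
        exact e1.trans ((congrArg (fun w => W.ι w) e2).trans hdt)
      let P0 : Spec ((Spec Bc).presheaf.stalk η) := closedPoint ((Spec Bc).presheaf.stalk η)
      have h5 : v (k t0) = dom.fromSpecStalkOfMem η hηdom P0 := by
        refine dom.ι.isOpenEmbedding.injective (h4.trans ?_)
        have e3 : (dom.fromSpecStalkOfMem η hηdom ≫ dom.ι) P0 = (Spec Bc).fromSpecStalk η P0 :=
          congrArg (fun ψ : Spec ((Spec Bc).presheaf.stalk η) ⟶ Spec Bc => ψ P0)
            (Scheme.Opens.fromSpecStalkOfMem_ι dom η hηdom)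
        exact (e3.trans hgenpt).symm
      rw [h5, ← Scheme.Hom.comp_apply, ← hh1]
      simp only [φ, Scheme.Hom.comp_apply]
      exact Scheme.fromSpecResidueField_apply _ _
    rw [← h3]
    exact (specializes_closedPoint _).map l.continuous
  · rw [← Scheme.Hom.comp_apply, hl1, Scheme.Hom.comp_apply, Scheme.fromSpecStalk_closedPoint,
      Scheme.Hom.comp_apply]
    change hD.fromSpec (Spec.map (CommRingCat.ofHom g) cp) = _
    congr 1
    exact PrimeSpectrum.ext hcm

/-- Quasi-compact morphisms satisfying the criterion are closed. -/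
theorem isClosedMap_of_curveLift {S X Y : Scheme.{u}} (hS : ∀ W : S.affineOpens, CAlg.IsNagata Γ(S, W))
    (q : Y ⟶ S) [LocallyOfFiniteType q] (f : X ⟶ Y) [LocallyOfFiniteType f] [QuasiCompact f]
    (H : CurveLift q f) : IsClosedMap f := by
  haveI := isLocallyNoetherian_of_nagata hS
  haveI : IsLocallyNoetherian Y := LocallyOfFiniteType.isLocallyNoetherian q
  haveI : IsLocallyNoetherian X := LocallyOfFiniteType.isLocallyNoetherian f
  haveI := lfp_of_noetherian f
  rw [isClosedMap_iff_specializingMap]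
  intro x y (hxy : f x ⤳ y)
  let E : Set Y := f '' closure {x}
  by_contra hcon
  have hyE : y ∉ E := fun ⟨x', hx', e⟩ => hcon ⟨x', specializes_iff_mem_closure.2 hx', e⟩
  have hE : Topology.IsLocallyConstructible E := by
    refine f.isLocallyConstructible_image ?_
    exact (Topology.IsLocallyConstructible.of_isOpenCover (s := closure {x}) X.affineCover.isOpenCover_opensRange
      fun i => by
        haveI : IsAffine ((X.affineCover.f i).opensRange : X.Opens) := isAffineOpen_opensRange _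
        haveI : IsNoetherian ((X.affineCover.f i).opensRange : X.Opens).toScheme := by
          haveI := LocallyOfFiniteType.isLocallyNoetherian ((X.affineCover.f i).opensRange : X.Opens).ι
          constructor
        haveI : TopologicalSpace.NoetherianSpace ↥((X.affineCover.f i).opensRange) :=
          (inferInstance : TopologicalSpace.NoetherianSpace ((X.affineCover.f i).opensRange : X.Opens).toScheme)
        haveI : QuasiSeparatedSpace ↥((X.affineCover.f i).opensRange) := inferInstance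
        have hcl : IsClosed (Subtype.val ⁻¹' closure {x} : Set ↥((X.affineCover.f i).opensRange)) :=
          isClosed_closure.preimage continuous_subtype_val
        exact (Topology.isConstructible_compl.1
          ((TopologicalSpace.NoetherianSpace.isCompact _).isConstructible hcl.isOpen_compl)).isLocallyConstructible)
  have hEc : ∀ (D : Y.Opens) (hD : IsAffineOpen D), Topology.IsConstructible (hD.fromSpec ⁻¹' E) := fun D hD =>
    (hE.preimage_of_isOpenEmbedding hD.fromSpec.isOpenEmbedding).isConstructible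
  obtain ⟨_, ⟨W, hW, rfl⟩, hyW, -⟩ :=
    S.isBasis_affineOpens.exists_subset_of_mem_open (Set.mem_univ (q y)) isOpen_univ
  obtain ⟨D₀, hD₀, hyD₀, -⟩ := exists_isAffineOpen_mem_and_subset (X := Y) (x := y) (U := ⊤) trivial
  obtain ⟨P₀, hP₀⟩ : y ∈ Set.range hD₀.fromSpec := by rw [hD₀.range_fromSpec]; exact hyD₀
  obtain ⟨O, C, hO, hC, hPO, hPC, hOC⟩ := (isConstructible_locally (hEc D₀ hD₀)).2 P₀
    (fun h => hyE (hP₀ ▸ h))
  obtain ⟨D, hD, hyD, hDsub⟩ := exists_isAffineOpen_mem_and_subset (X := Y) (x := y)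
    (U := ⟨hD₀.fromSpec '' O, hD₀.fromSpec.isOpenEmbedding.isOpenMap _ hO⟩ ⊓ q ⁻¹ᵁ W) ⟨⟨P₀, hPO, hP₀⟩, hyW⟩
  have hnotE : ∀ t : Y, y ⤳ t → t ∈ D → t ∉ E := by
    intro t hyt htD htE
    obtain ⟨t', ht', rfl⟩ := (hDsub htD).1
    rw [← hP₀] at hyt
    exact hOC ⟨ht', (hD₀.fromSpec.isEmbedding.isInducing.specializes_iff.1 hyt).mem_closed hC hPC⟩ htE
  have hN : CAlg.IsNagata Γ(Y, D) := by
    have e : D ≤ q ⁻¹ᵁ W := fun t ht => (hDsub ht).2
    letI : Algebra Γ(S, W) Γ(Y, D) := (q.appLE W D e).hom.toAlgebra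
    haveI : Algebra.FiniteType Γ(S, W) Γ(Y, D) := LocallyOfFiniteType.finiteType_appLE (f := q) hW hD e
    exact CAlgLow.isNagata_of_finiteType (hS ⟨W, hW⟩) Γ(Y, D)
  haveI : IsNoetherianRing Γ(Y, D) := hN.1
  obtain ⟨Py, hPy⟩ : y ∈ Set.range hD.fromSpec := by rw [hD.range_fromSpec]; exact hyD
  obtain ⟨mI, hmI, hmle⟩ := Ideal.exists_le_maximal Py.asIdeal Py.isPrime.ne_top
  let m : Spec Γ(Y, D) := ⟨mI, hmI.isPrime⟩
  haveI : m.asIdeal.IsMaximal := hmI
  have hym : y ⤳ hD.fromSpec m := hPy ▸ ((PrimeSpectrum.le_iff_specializes Py m).1 hmle).map hD.fromSpec.continuous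
  have hmD : hD.fromSpec m ∈ D := by
    have : hD.fromSpec m ∈ Set.range hD.fromSpec := ⟨m, rfl⟩
    rwa [hD.range_fromSpec] at this
  have hmE : hD.fromSpec m ∉ E := hnotE _ hym hmD
  obtain ⟨p₀, hp₀⟩ : f x ∈ Set.range hD.fromSpec := by
    rw [hD.range_fromSpec]; exact (hxy.trans hym).mem_open D.2 hmD
  let T : Set (Ideal Γ(Y, D)) := {Q | ∃ q : Spec Γ(Y, D), q.asIdeal = Q ∧ Q ≤ mI ∧ hD.fromSpec q ∈ E}
  have hTne : T.Nonempty := by
    refine ⟨p₀.asIdeal, p₀, rfl, ?_, hp₀ ▸ ⟨x, subset_closure rfl, rfl⟩⟩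
    refine (PrimeSpectrum.le_iff_specializes p₀ m).2 (hD.fromSpec.isEmbedding.isInducing.specializes_iff.1 ?_)
    rw [hp₀]; exact hxy.trans hym
  obtain ⟨Q, ⟨p, rfl, hpm, hpE⟩, hmax⟩ := set_has_maximal_iff_noetherian.2 inferInstance T hTne
  have hpm' : p.asIdeal < m.asIdeal := lt_of_le_of_ne hpm fun e => hmE (by
    rw [show m = p from PrimeSpectrum.ext e.symm]; exact hpE)
  obtain ⟨O', C', hO', hC', hpO, hpC, hOC'⟩ := (isConstructible_locally (hEc D hD)).1 p hpE
  obtain ⟨_, ⟨a, rfl⟩, hpa, haO⟩ := PrimeSpectrum.isTopologicalBasis_basic_opens.exists_subset_of_mem_open hpO hO'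
  have hgap : ∀ q : Ideal Γ(Y, D), q.IsPrime → p.asIdeal ≤ q → q < m.asIdeal → q = p.asIdeal := by
    intro q0 hq0 hpq hqm
    haveI := hq0
    refine gap p.asIdeal m.asIdeal a hpa (fun Q hQ hle hlt haQ => ?_) q0 hpq hqm
    let Q' : Spec Γ(Y, D) := ⟨Q, hQ⟩
    have hQE : hD.fromSpec Q' ∈ E :=
      hOC' ⟨haO haQ, ((PrimeSpectrum.le_iff_specializes p Q').1 hle).mem_closed hC' hpC⟩
    exact (eq_of_le_of_not_lt hle (hmax Q ⟨Q', rfl, hlt.le, hQE⟩)).symm
  obtain ⟨z, hz, hzf⟩ := hpE
  let s := hD.fromSpec p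
  haveI : LocallyOfFiniteType (f.fiberToSpecResidueField s) := MorphismProperty.pullback_snd _ _ inferInstance
  haveI : JacobsonSpace (f.fiber s) := LocallyOfFiniteType.jacobsonSpace (f.fiberToSpecResidueField s)
  obtain ⟨zf, hzf'⟩ : z ∈ Set.range (f.fiberι s) := by rw [f.range_fiberι]; exact hzf
  obtain ⟨w, hw, hwc⟩ := nonempty_inter_closedPoints (Z := f.fiberι s ⁻¹' closure {x}) ⟨zf, by
      rw [Set.mem_preimage, hzf']; exact hz⟩
    (isClosed_closure.preimage (f.fiberι s).continuous).isLocallyClosed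
  have hws : f (f.fiberι s w) = s := by
    have : f.fiberι s w ∈ Set.range (f.fiberι s) := ⟨w, rfl⟩
    rw [f.range_fiberι] at this
    exact this
  have hfin : (f.residueFieldMap (f.fiberι s w)).hom.Finite := by
    rw [← FtPts3.isClosed_asFiber_iff_finite, FtPts3.isClosed_asFiber_iff]
    intro t ht hspec
    obtain ⟨t', rfl⟩ : t ∈ Set.range (f.fiberι s) := by rw [f.range_fiberι]; exact ht.trans hws
    exact congrArg _ ((FtPts3.isClosed_singleton_iff_specializes w).1 hwc t'
      ((f.fiberι s).isEmbedding.isInducing.specializes_iff.1 hspec))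
  obtain ⟨x', hx', he⟩ := exists_specializes q f H hD hN p m hpm' hgap (f.fiberι s w) hws hfin
  exact hmE ⟨x', hx'.mem_closed isClosed_closure hw, he⟩

end Groth.Agent.NagataCurve13
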